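import Cfsg.Agent.Lib.PSL2Degrees.Values
import Cfsg.Agent.Lib.Zassenhaus.Basic
import Cfsg.Agent.Lib.BrauerTuan.Identify
import Cfsg.Agent.S0157
import Cfsg.Agent.S0742

/-!
# Groups with the degrees of `PSL(2, p^2)` act on their Sylow `p`-subgroups as Zassenhaus groups
-/

set_option autoImplicit false
set_option linter.unusedSectionVars false
set_option linter.style.haveILetI false

namespace CfsgLib.PSL2Degrees

open Cfsg CfsgLib.Char MulAction
open scoped ComplexConjugate CfsgLib.Char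

universe u v

variable {G : Type u} [Group G] [Fintype G] {p q : ℕ} [hpf : Fact p.Prime]
variable (h : Hyp G p q)
include h

theorem Hyp.sylow_card (P : Sylow p G) : Nat.card (P : Subgroup G) = q := by
  have hne : (q - 1) * ((q + 1) / 2) ≠ 0 := fun e => h.p_not_dvd (by rw [e]; exact dvd_zero p)
  rw [P.card_eq_multiplicity, h.card, Nat.factorization_mul (h.hq ▸ pow_ne_zero 2 h.hp.ne_zero) hne,
    Finsupp.add_apply, Nat.factorization_eq_zero_of_not_dvd h.p_not_dvd, add_zero, h.hq,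
    Nat.Prime.factorization_pow h.hp, Finsupp.single_eq_same]

theorem Hyp.p_dvd_order {P : Sylow p G} {x : G} (hx : x ∈ (P : Subgroup G)) (hx1 : x ≠ 1) :
    p ∣ orderOf x := by
  obtain ⟨k, hk⟩ := IsPGroup.iff_orderOf.mp P.2 ⟨x, hx⟩
  rw [Subgroup.orderOf_mk] at hk
  rcases k with _ | k
  · exact absurd (orderOf_eq_one_iff.mp (by rw [hk, pow_zero])) hx1
  · exact hk ▸ dvd_pow_self p k.succ_ne_zero

theorem Hyp.ti {P Q : Sylow p G} {x : G} (hP : x ∈ (P : Subgroup G)) (hQ : x ∈ (Q : Subgroup G))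
    (hx1 : x ≠ 1) : P = Q := by
  have hC := h.cent_pgroup (h.p_dvd_order hP hx1)
  have hle : ∀ R : Sylow p G, x ∈ (R : Subgroup G) →
      Subgroup.centralizer ({x} : Set G) = (R : Subgroup G) := by
    intro R hR
    refine R.is_maximal' hC fun y hy => Subgroup.mem_centralizer_singleton_iff.mpr ?_
    exact congrArg Subtype.val
      ((IsPGroup.isMulCommutative_of_card_eq_prime_sq (p := p)
        (by rw [h.sylow_card R, h.hq])).is_comm.comm ⟨y, hy⟩ ⟨x, hR⟩)
  exact Sylow.ext ((hle P hP).symm.trans (hle Q hQ))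

theorem Hyp.number : Nat.card (Sylow p G) = q + 1 := by
  classical
  obtain ⟨a, ha, hqa⟩ := h.arith
  let f : (Σ P : Sylow p G, {x : (P : Subgroup G) // x ≠ 1}) → {g : G // p ∣ orderOf g} :=
    fun z => ⟨z.2.1, h.p_dvd_order z.2.1.2 fun e => z.2.2 (Subtype.ext e)⟩
  have hf : Function.Bijective f := by
    refine ⟨?_, ?_⟩
    · rintro ⟨P, ⟨x, hx⟩, hx1⟩ ⟨Q, ⟨y, hy⟩, hy1⟩ e
      have exy : x = y := congrArg Subtype.val e
      subst exy
      obtain rfl := h.ti hx hy fun e' => hx1 (Subtype.ext e')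
      rfl
    · rintro ⟨g, hg⟩
      have hg1 : g ≠ 1 := fun e => h.hp.ne_one (Nat.dvd_one.mp (by rwa [e, orderOf_one] at hg))
      have hpg : IsPGroup p (Subgroup.zpowers g) := (h.cent_pgroup hg).to_le
        (Subgroup.zpowers_le.mpr (Subgroup.mem_centralizer_singleton_iff.mpr rfl))
      obtain ⟨P, hP⟩ := hpg.exists_le_sylow
      exact ⟨⟨P, ⟨g, hP (Subgroup.mem_zpowers g)⟩, fun e => hg1 (congrArg Subtype.val e)⟩, rfl⟩
  haveI := Fintype.ofFinite (Sylow p G)
  have e := Nat.card_congr (Equiv.ofBijective f hf)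
  have hfib : ∀ P : Sylow p G, Nat.card {x : (P : Subgroup G) // x ≠ 1} = q - 1 := fun P => by
    haveI := Fintype.ofFinite (P : Subgroup G)
    rw [Nat.card_eq_fintype_card, Fintype.card_subtype_compl, Fintype.card_subtype_eq,
      ← Nat.card_eq_fintype_card, h.sylow_card P]
  rw [Nat.card_sigma, Finset.sum_congr rfl (fun P _ => hfib P), Finset.sum_const, Finset.card_univ,
    ← Nat.card_eq_fintype_card, smul_eq_mul] at e
  have hc := h.count
  rw [← e] at hc
  have h1 : Nat.card (Sylow p G) * (q - 1) = (q + 1) * (q - 1) := by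
    rw [← Nat.sq_sub_sq, one_pow, ← hc, Nat.add_sub_cancel]
  exact Nat.eq_of_mul_eq_mul_right (by omega) h1

theorem Hyp.free_smul {P Q : Sylow p G} (hne : Q ≠ P) {x : G} (hx : x ∈ (P : Subgroup G))
    (hfix : x • Q = Q) : x = 1 := by
  by_contra hx1
  have hmem : x ∈ (P : Subgroup G) ⊓ Subgroup.normalizer (Q : Set G) :=
    ⟨hx, Sylow.smul_eq_iff_mem_normalizer.mp hfix⟩
  rw [IsPGroup.inf_normalizer_sylow P.2 Q] at hmem
  exact hne (h.ti hmem.2 hx hx1)

theorem Hyp.exists_mem_smul {P Q R : Sylow p G} (hQ : Q ≠ P) (hR : R ≠ P) :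
    ∃ x ∈ (P : Subgroup G), x • Q = R := by
  classical
  haveI := Fintype.ofFinite (P : Subgroup G)
  haveI := Fintype.ofFinite (Sylow p G)
  let f : ↥(P : Subgroup G) → {S : Sylow p G // S ≠ P} := fun x => ⟨(x : G) • Q, fun e => hQ (by
    have e2 : ((x : G)⁻¹) • P = P :=
      Sylow.smul_eq_iff_mem_normalizer.mpr (Subgroup.le_normalizer (inv_mem x.2))
    exact ((inv_smul_smul (x : G) Q).symm.trans (congrArg (((x : G)⁻¹) • ·) e)).trans e2)⟩
  have hinj : Function.Injective f := fun x y e => by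
    have e' : (x : G) • Q = (y : G) • Q := congrArg Subtype.val e
    have h1 := h.free_smul hQ ((P : Subgroup G).mul_mem ((P : Subgroup G).inv_mem y.2) x.2)
      (by rw [mul_smul, e', inv_smul_smul])
    exact Subtype.ext (inv_mul_eq_one.mp h1).symm
  have hb := (Fintype.bijective_iff_injective_and_card f).mpr ⟨hinj, by
    rw [← Nat.card_eq_fintype_card, h.sylow_card, Fintype.card_subtype_compl, Fintype.card_subtype_eq,
      ← Nat.card_eq_fintype_card, h.number]; omega⟩
  obtain ⟨x, hx⟩ := hb.2 ⟨R, hR⟩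
  exact ⟨x, x.2, congrArg Subtype.val hx⟩

theorem Hyp.two_trans : IsMultiplyPretransitive G (Sylow p G) 2 := by
  rw [is_two_pretransitive_iff]
  intro A B C D hAB hCD
  obtain ⟨g, hg⟩ := exists_smul_eq G A C
  have hgB : g • B ≠ C := fun e => hAB (smul_left_cancel g (hg.trans e.symm))
  obtain ⟨x, hx, hxB⟩ := h.exists_mem_smul hgB (Ne.symm hCD)
  refine ⟨x * g, ?_, by rw [mul_smul, hxB]⟩
  rw [mul_smul, hg, Sylow.smul_eq_iff_mem_normalizer.mpr (Subgroup.le_normalizer hx)]

theorem Hyp.fix_eq (g : G) :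
    (Nat.card (fixedBy (Sylow p G) g) : ℂ) = 1 + h.St.1 g := by
  obtain ⟨a, ha, hqa⟩ := h.arith
  have hn : 2 ≤ Nat.card (Sylow p G) := by rw [h.number]; omega
  have hirr := (Cfsg.Agent.S0157.result (G := G) (Sylow p G) hn).mpr h.two_trans
  have h1 : ((fun g => (Nat.card (fixedBy (Sylow p G) g) : ℂ) - 1) : G → ℂ) 1 = (q : ℂ) := by
    show (Nat.card (fixedBy (Sylow p G) (1 : G)) : ℂ) - 1 = q
    rw [fixedBy_one_eq_univ, Nat.card_coe_set_eq, Set.ncard_univ, h.number]
    push_cast; ring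
  have e := h.uniq ⟨_, hirr⟩ h.St (Nat.cast_injective (R := ℂ) ((deg_cast _).symm.trans h1)) h.St_deg
  have e' := congrFun (congrArg Subtype.val e) g
  simp only at e'
  rw [← e']; ring

theorem Hyp.fix_le {g : G} (hg : g ≠ 1) : Nat.card (fixedBy (Sylow p G) g) ≤ 2 := by
  have e := h.fix_eq g
  by_cases hp : p ∣ orderOf g
  · rw [h.St_vanish hp, add_zero] at e
    have : Nat.card (fixedBy (Sylow p G) g) = 1 := by exact_mod_cast e
    omega
  · rcases (h.St_values hg hp).1 with e' | e' <;> rw [e'] at e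
    · have : Nat.card (fixedBy (Sylow p G) g) = 1 + 1 := by exact_mod_cast e
      omega
    · rw [add_neg_cancel, Nat.cast_eq_zero] at e
      omega

theorem Hyp.three_fixed {g : G} {A B C : Sylow p G} (hAB : A ≠ B) (hBC : B ≠ C) (hAC : A ≠ C)
    (hA : g • A = A) (hB : g • B = B) (hC : g • C = C) : g = 1 := by
  classical
  by_contra hg
  have := h.fix_le hg
  have hcard : ({A, B, C} : Finset (Sylow p G)).card = 3 :=
    Finset.card_eq_three.mpr ⟨A, B, C, hAB, hAC, hBC, rfl⟩
  have hsub : (({A, B, C} : Finset (Sylow p G)) : Set (Sylow p G)) ⊆ fixedBy (Sylow p G) g := by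
    intro x hx
    simp only [Finset.coe_insert, Finset.coe_singleton, Set.mem_insert_iff, Set.mem_singleton_iff] at hx
    rcases hx with rfl | rfl | rfl <;> assumption
  have := Set.ncard_le_ncard hsub
  rw [Set.ncard_coe_finset, hcard, ← Nat.card_coe_set_eq] at this
  omega

theorem Hyp.faithful : FaithfulSMul G (Sylow p G) := by
  classical
  obtain ⟨a, ha, hqa⟩ := h.arith
  refine ⟨fun {g g'} hgg => ?_⟩
  by_contra hne
  have hfix : ∀ A : Sylow p G, (g'⁻¹ * g) • A = A := fun A => by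
    rw [mul_smul, hgg A, inv_smul_smul]
  have := h.fix_le (g := g'⁻¹ * g) fun e => hne (inv_mul_eq_one.mp e).symm
  have e : fixedBy (Sylow p G) (g'⁻¹ * g) = Set.univ := Set.eq_univ_of_forall hfix
  rw [e, Nat.card_coe_set_eq, Set.ncard_univ, h.number] at this
  omega

/-- A regular normal subgroup would have order `q + 1` and consist of involutions. -/
theorem Hyp.no_regular (N : Subgroup G) (hN : N.Normal) (htr : IsPretransitive N (Sylow p G)) :
    ∃ A : Sylow p G, stabilizer N A ≠ ⊥ := by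
  classical
  obtain ⟨a, ha, hqa⟩ := h.arith
  by_contra hcon
  push Not at hcon
  haveI := htr
  obtain ⟨P⟩ := (inferInstance : Nonempty (Sylow p G))
  have hNc : Nat.card N = q + 1 := by
    have := index_stabilizer_of_transitive N P
    rwa [hcon P, Subgroup.index_bot, h.number] at this
  haveI := Fact.mk Nat.prime_two
  obtain ⟨⟨t, htN⟩, hto⟩ := exists_prime_orderOf_dvd_card' (G := N) 2 ⟨2 * a + 1, by omega⟩
  rw [Subgroup.orderOf_mk] at hto
  have ht1 : t ≠ 1 := fun e => by rw [e, orderOf_one] at hto; omega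
  have hpN : ¬ p ∣ Nat.card N := by
    rw [hNc]
    exact fun e => h.hp.ne_one (Nat.dvd_one.mp ((Nat.dvd_add_right h.p_dvd_q).mp e))
  -- conjugation by `P` is regular on `N \ {1}`
  haveI := Fintype.ofFinite (P : Subgroup G)
  haveI := Fintype.ofFinite N
  let f : ↥(P : Subgroup G) → {n : N // n ≠ 1} := fun x =>
    ⟨⟨(x : G) * t * (x : G)⁻¹, hN.conj_mem t htN x⟩, fun e => ht1 (by
      have e' : (x : G) * t * (x : G)⁻¹ = 1 := congrArg Subtype.val e
      exact conj_eq_one_iff.mp e')⟩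
  have hinj : Function.Injective f := fun x y e => by
    have e' : (x : G) * t * (x : G)⁻¹ = (y : G) * t * (y : G)⁻¹ :=
      congrArg (fun z : {n : N // n ≠ 1} => ((z.1 : N) : G)) e
    have hc : ((y : G)⁻¹ * x) * t = t * ((y : G)⁻¹ * x) := by
      calc ((y : G)⁻¹ * x) * t = (y : G)⁻¹ * ((x : G) * t * (x : G)⁻¹) * x := by group
        _ = (y : G)⁻¹ * ((y : G) * t * (y : G)⁻¹) * x := by rw [e']
        _ = t * ((y : G)⁻¹ * x) := by group
    by_contra hxy
    have hz1 : (y : G)⁻¹ * x ≠ 1 := fun e'' => hxy (Subtype.ext (inv_mul_eq_one.mp e'').symm)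
    have hzP := (P : Subgroup G).mul_mem ((P : Subgroup G).inv_mem y.2) x.2
    obtain ⟨k, hk⟩ := IsPGroup.iff_orderOf.mp (h.cent_pgroup (h.p_dvd_order hzP hz1))
      ⟨t, Subgroup.mem_centralizer_singleton_iff.mpr hc.symm⟩
    rw [Subgroup.orderOf_mk, hto] at hk
    rcases k with _ | k
    · simp at hk
    · have := (Nat.prime_dvd_prime_iff_eq h.hp Nat.prime_two).mp (hk ▸ dvd_pow_self p k.succ_ne_zero)
      exact absurd (this ▸ h.hodd) (by decide)
  have hb := (Fintype.bijective_iff_injective_and_card f).mpr ⟨hinj, by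
    rw [← Nat.card_eq_fintype_card, h.sylow_card, Fintype.card_subtype_compl, Fintype.card_subtype_eq,
      ← Nat.card_eq_fintype_card, hNc]; omega⟩
  have hexp : IsPGroup 2 N := by
    rw [IsPGroup.iff_orderOf]
    intro n
    by_cases hn : n = 1
    · exact ⟨0, by rw [hn, orderOf_one, pow_zero]⟩
    · obtain ⟨x, hx⟩ := hb.2 ⟨n, hn⟩
      refine ⟨1, ?_⟩
      rw [pow_one, ← Subgroup.orderOf_coe, ← congrArg (fun z : {n : N // n ≠ 1} => ((z.1 : N) : G)) hx]
      show orderOf ((x : G) * t * (x : G)⁻¹) = 2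
      rw [← MulAut.conj_apply, MulEquiv.orderOf_eq, hto]
  obtain ⟨k, hk⟩ := hexp.exists_card_eq
  rw [hNc, hqa] at hk
  rcases k with _ | _ | k
  · simp at hk
  · simp at hk; omega
  · rw [pow_succ, pow_succ] at hk; omega

/-- The group is a Zassenhaus group on its Sylow `p`-subgroups with two-point stabilisers of order
`(q - 1) / 2`, so it is `PSL(2, q)`. -/
theorem Hyp.iso {F : Type v} [Field F] [Fintype F] (hF : Fintype.card F = q) :
    Nonempty (G ≃* Matrix.ProjectiveSpecialLinearGroup (Fin 2) F) := by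
  classical
  haveI := Fintype.ofFinite (Sylow p G)
  obtain ⟨a, ha, hqa⟩ := h.arith
  haveI := Fact.mk Nat.prime_two
  obtain ⟨t, ht⟩ := exists_prime_orderOf_dvd_card' (G := G) 2 (by
    rw [h.card, show q - 1 = 2 * (2 * a) by omega]
    exact Dvd.dvd.mul_left (Dvd.dvd.mul_right (dvd_mul_right _ _) _) _)
  have ht1 : t ≠ 1 := fun e => by rw [e, orderOf_one] at ht; omega
  have htp : ¬ p ∣ orderOf t := by
    rw [ht]
    intro e
    have := (Nat.prime_dvd_prime_iff_eq h.hp Nat.prime_two).mp e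
    exact absurd (this ▸ h.hodd) (by decide)
  have hfix : Nat.card (fixedBy (Sylow p G) t) = 2 := by
    have e := h.fix_eq t
    rw [(h.St_values ht1 htp).2 ht] at e
    have : (Nat.card (fixedBy (Sylow p G) t) : ℂ) = ((2 : ℕ) : ℂ) := by rw [e]; norm_num
    exact_mod_cast this
  obtain ⟨A, B, hAB, hset⟩ := Set.ncard_eq_two.mp (by rw [← Nat.card_coe_set_eq]; exact hfix)
  have hA : t • A = A := (show A ∈ fixedBy (Sylow p G) t by rw [hset]; simp)
  have hB : t • B = B := (show B ∈ fixedBy (Sylow p G) t by rw [hset]; simp)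
  have hthree : ∀ g : G, ∀ A B C : Sylow p G, A ≠ B → B ≠ C → A ≠ C →
      g • A = A → g • B = B → g • C = C → g = 1 := fun g A B C h1 h2 h3 => h.three_fixed h1 h2 h3
  have hex : ∃ g : G, g ≠ 1 ∧ ∃ a b : Sylow p G, a ≠ b ∧ g • a = a ∧ g • b = b :=
    ⟨t, ht1, A, B, hAB, hA, hB⟩
  have hZ : IsZassenhausGroup G (Sylow p G) :=
    ⟨h.faithful, h.two_trans, hthree, hex, h.no_regular⟩
  have hz := CfsgLib.Zassenhaus.ZG.mk' h.faithful h.two_trans hthree hex
  have hD : Nat.card ↥(stabilizer G A ⊓ stabilizer G B) = 2 * a := by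
    have e := CfsgLib.Zassenhaus.card_group hz hAB
    rw [h.number, h.card, Nat.add_sub_cancel] at e
    rw [show (q + 1) / 2 = 2 * a + 1 by omega, show q - 1 = 2 * (2 * a) by omega,
      show q * (2 * (2 * a) * (2 * a + 1)) = (2 * (2 * a + 1)) * q * (2 * a) by ring,
      show q + 1 = 2 * (2 * a + 1) by omega] at e
    exact (Nat.eq_of_mul_eq_mul_left (by positivity [show 0 < q by omega]) e).symm
  obtain ⟨p', f, K, _, _, -, -, hK, hΩ, ⟨e⟩⟩ := Cfsg.Agent.S0742.result (G := G) (Ω := Sylow p G) hZ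
    (a := A) (b := B) hAB (hD.symm ▸ even_two_mul a) (by
      rw [hD, ← Nat.card_eq_fintype_card, h.number]; omega)
  obtain ⟨e'⟩ := CfsgLib.BrauerTuan.psl_congr (F := K) (K := F) (by
    rw [hF, hK]
    rw [← Nat.card_eq_fintype_card, h.number] at hΩ
    omega)
  exact ⟨e.trans e'⟩

end CfsgLib.PSL2Degrees
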