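import Cfsg.Agent.Lib.RankOne.SLDegreeSet
import Cfsg.Agent.Lib.Classical.Card
import Cfsg.Agent.Lib.Char.Table

/-!
# The degrees of `PSL(2, q)`, `q ≡ 1 mod 4`, and transfer along equal degree counts
-/

set_option autoImplicit false
set_option linter.unusedSectionVars false
set_option linter.style.haveILetI false

namespace CfsgLib.PSL2Degrees

open Cfsg CfsgLib.Char CfsgLib.RankOne CfsgLib.RankOne.SLTwo CfsgLib.SL2
open scoped ComplexConjugate CfsgLib.Char MatrixGroups

universe u v

/-- The degree as a natural number. -/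
theorem charDegree_cast {H : Type*} [Group H] (χ : IrrCharacter H) [Finite H] :
    (χ : H → ℂ) 1 = (charDegree (χ : H → ℂ) : ℂ) := by
  obtain ⟨n, hn, hd⟩ := exists_nat_degree_irr χ.2
  rw [charDegree_of_apply_one hd, hd]

variable {F : Type u} [Field F] [Fintype F] [DecidableEq F]

/-- For `q ≡ 1 mod 4` a character of degree `(q - 1) / 2` is faithful on the centre. -/
theorem half_pred_neg (hq4 : Fintype.card F % 4 = 1)
    {χ : SL(2, F) → ℂ} (hχ : IsIrrCharacter SL(2, F) χ)
    (hd : χ 1 = ((Fintype.card F : ℂ) - 1) / 2) : χ (-1) ≠ χ 1 := by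
  classical
  intro hneg
  have h2 : ringChar F ≠ 2 := ringChar_of_odd (Nat.odd_iff.mpr (by omega))
  have hq : 4 ≤ Fintype.card F := by
    have : 1 < Fintype.card F := Fintype.one_lt_card
    omega
  have hc := kind_of_degree_half_pred hq hχ hd
  obtain ⟨g, -, hcyc, hn⟩ := CfsgLib.SL2.exists_regular_nonsplit (F := F)
  have hT : Torus (CfsgLib.SL2.cent g) := ⟨h2, hcyc, by rw [hn, Nat.card_eq_fintype_card]⟩
  obtain ⟨θ, hθ1, hθ2, hval⟩ := hc.torus_half hT hχ hd
  obtain ⟨c, hgen, hcz, ho⟩ := hT.exists_noncentral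
  obtain ⟨z, hz, hz2, hz1⟩ := hT.exists_z
  have hθc := hT.quad_apply hθ2 hθ1 hgen
  obtain ⟨ω, hω, hω'⟩ := exists_sign hχ
  have hω1 : ω = 1 := by
    have h := hω' 1
    rw [mul_one, hneg] at h
    exact (mul_left_eq_self₀.mp h.symm).resolve_right (irr_degree_ne_zero hχ)
  -- the central involution of the torus is an odd power of a generator
  obtain ⟨m, hm⟩ : ∃ m, Fintype.card F + 1 = 2 * (2 * m + 1) := ⟨Fintype.card F / 4, by omega⟩
  have hsq : (c ^ (2 * m + 1)) ^ 2 = 1 := by
    rw [← pow_mul, mul_comm, ← hm, ← ho, pow_orderOf_eq_one]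
  have hne : c ^ (2 * m + 1) ≠ 1 := fun e => by
    have := Nat.le_of_dvd (by omega) (orderOf_dvd_of_pow_eq_one e)
    omega
  have hze : ((c ^ (2 * m + 1) : CfsgLib.SL2.cent g) : SL(2, F)) = -1 := by
    refine eq_neg_one_of_mul_self (Ring.two_ne_zero hT.odd) ?_ fun e => hne (Subtype.ext e)
    rw [← Subgroup.coe_mul, ← sq, hsq, Subgroup.coe_one]
  have hθz : (θ (c ^ (2 * m + 1)) : ℂ) = -1 := by
    rw [map_pow, Units.val_pow_eq_pow_val, hθc]
    simp [pow_succ, pow_mul]
  have hzc : ((c ^ (2 * m + 1) * c : CfsgLib.SL2.cent g) : SL(2, F)) ∉ Subgroup.center SL(2, F) := by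
    rw [Subgroup.coe_mul, hze]
    intro h
    exact hcz (by
      have h' := Subgroup.mul_mem _ (Subgroup.inv_mem _ (neg_one_mem_center (F := F))) h
      rwa [inv_mul_cancel_left] at h')
  have e1 := hval _ hzc
  rw [Subgroup.coe_mul, hze, hω', hω1, one_mul, hval c hcz, map_mul, Units.val_mul, hθz, hθc] at e1
  norm_num at e1

/-- The degrees of `PSL(2, q)`. -/
theorem psl_degrees (hq4 : Fintype.card F % 4 = 1)
    (η : IrrCharacter (Matrix.ProjectiveSpecialLinearGroup (Fin 2) F)) :
    charDegree η.1 = 1 ∨ charDegree η.1 = Fintype.card F ∨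
      charDegree η.1 = (Fintype.card F + 1) / 2 ∨
      charDegree η.1 = Fintype.card F - 1 ∨ charDegree η.1 = Fintype.card F + 1 := by
  have hodd : Odd (Fintype.card F) := Nat.odd_iff.mpr (by omega)
  have hf := QuotientGroup.mk'_surjective (Subgroup.center SL(2, F))
  rcases charDegree_quot_cases (QuotientGroup.mk' (Subgroup.center SL(2, F))) hf η with
    h | h | h | ⟨-, h⟩ | h | ⟨-, h⟩
  · exact Or.inl h
  · exact Or.inr (Or.inl h)
  · exact Or.inr (Or.inr (Or.inr (Or.inr h)))
  · exact Or.inr (Or.inr (Or.inl h))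
  · exact Or.inr (Or.inr (Or.inr (Or.inl h)))
  · exfalso
    set χ := CfsgLib.Blocks.inflate (QuotientGroup.mk' (Subgroup.center SL(2, F))) hf η
    refine half_pred_neg hq4 χ.2 ?_ ?_
    · show η.1 (QuotientGroup.mk' _ 1) = _
      rw [map_one, charDegree_cast, h, (half_cast hodd).2]
    · show η.1 (QuotientGroup.mk' _ (-1)) = η.1 (QuotientGroup.mk' _ 1)
      refine congrArg η.1 ?_
      rw [map_one]
      exact (QuotientGroup.eq_one_iff _).mpr (neg_one_mem_center (F := F))

/-- `PSL(2, q)` has exactly one linear character. -/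
theorem psl_linear_unique (hq : 4 ≤ Fintype.card F)
    (η η' : IrrCharacter (Matrix.ProjectiveSpecialLinearGroup (Fin 2) F))
    (h : η.1 1 = 1) (h' : η'.1 1 = 1) : η = η' := by
  have hf := QuotientGroup.mk'_surjective (Subgroup.center SL(2, F))
  refine CfsgLib.Blocks.inflate_injective (QuotientGroup.mk' _) hf (Subtype.ext ?_)
  rw [kind_of_degree_one hq (CfsgLib.Blocks.inflate (QuotientGroup.mk' _) hf η).2 (by
    simp [CfsgLib.Blocks.inflate, h]), kind_of_degree_one hq
    (CfsgLib.Blocks.inflate (QuotientGroup.mk' _) hf η').2 (by simp [CfsgLib.Blocks.inflate, h'])]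

/-- `PSL(2, q)` has exactly one irreducible character of degree `q`. -/
theorem psl_card_unique (η η' : IrrCharacter (Matrix.ProjectiveSpecialLinearGroup (Fin 2) F))
    (h : η.1 1 = (Fintype.card F : ℂ)) (h' : η'.1 1 = (Fintype.card F : ℂ)) :
    η = η' := by
  have hf := QuotientGroup.mk'_surjective (Subgroup.center SL(2, F))
  refine CfsgLib.Blocks.inflate_injective (QuotientGroup.mk' _) hf (Subtype.ext ?_)
  rw [kind_of_degree_card (CfsgLib.Blocks.inflate (QuotientGroup.mk' _) hf η).2 (by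
    simp [CfsgLib.Blocks.inflate, h]), kind_of_degree_card
    (CfsgLib.Blocks.inflate (QuotientGroup.mk' _) hf η').2 (by simp [CfsgLib.Blocks.inflate, h'])]

/-- Equal degree counts give a degree preserving bijection. -/
theorem exists_equiv {G : Type*} {H : Type*} [Group G] [Finite G] [Group H] [Finite H]
    (h : ∀ d : ℕ, Nat.card {χ : IrrCharacter G // (χ : G → ℂ) 1 = (d : ℂ)} =
      Nat.card {χ : IrrCharacter H // (χ : H → ℂ) 1 = (d : ℂ)}) :
    ∃ e : IrrCharacter G ≃ IrrCharacter H, ∀ χ, (e χ : H → ℂ) 1 = (χ : G → ℂ) 1 := by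
  haveI := finite_irrCharacter (G := G)
  haveI := finite_irrCharacter (G := H)
  have key : ∀ d : ℕ, Nonempty ({χ : IrrCharacter G // charDegree (χ : G → ℂ) = d} ≃
      {χ : IrrCharacter H // charDegree (χ : H → ℂ) = d}) := by
    intro d
    have e1 : Nat.card {χ : IrrCharacter G // charDegree (χ : G → ℂ) = d} =
        Nat.card {χ : IrrCharacter G // (χ : G → ℂ) 1 = (d : ℂ)} :=
      Nat.card_congr (Equiv.subtypeEquivRight fun χ => by rw [charDegree_cast χ, Nat.cast_inj])
    have e2 : Nat.card {χ : IrrCharacter H // charDegree (χ : H → ℂ) = d} =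
        Nat.card {χ : IrrCharacter H // (χ : H → ℂ) 1 = (d : ℂ)} :=
      Nat.card_congr (Equiv.subtypeEquivRight fun χ => by rw [charDegree_cast χ, Nat.cast_inj])
    exact Finite.card_eq.mp (by rw [e1, e2, h d])
  refine ⟨Equiv.ofFiberEquiv fun d => (key d).some, fun χ => ?_⟩
  rw [charDegree_cast χ, charDegree_cast]
  exact_mod_cast Equiv.ofFiberEquiv_map (fun d => (key d).some) χ

/-- Equal degree counts give equal orders. -/
theorem card_eq_of_equiv {G : Type*} {H : Type*} [Group G] [Finite G] [Group H] [Finite H]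
    (e : IrrCharacter G ≃ IrrCharacter H) (he : ∀ χ, (e χ : H → ℂ) 1 = (χ : G → ℂ) 1) :
    Nat.card G = Nat.card H := by
  have h1 := sum_degree_mul_irr (1 : G)
  have h2 := sum_degree_mul_irr (1 : H)
  rw [if_pos rfl] at h1 h2
  rw [← Equiv.sum_comp e] at h2
  simp only [he] at h2
  exact_mod_cast h1.symm.trans h2

end CfsgLib.PSL2Degrees
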