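import Cfsg.Agent.Lib.Char.SquareRoots
import Cfsg.Agent.Lib.Char.Table
import Cfsg.Agent.Lib.Char.Burnside
import Cfsg.Agent.Lib.BrauerTuan.Rational

/-!
# Groups with the degrees of `PSL(2, p^2)`: the values of the character of degree `q = p^2`

On the `p`-singular elements it vanishes, elsewhere away from the identity its values are `±1`.
Hence centralisers of nontrivial `p`-elements are Sylow `p`-subgroups.
-/

set_option autoImplicit false
set_option linter.unusedSectionVars false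
set_option linter.style.haveILetI false

namespace CfsgLib.PSL2Degrees

open Cfsg CfsgLib.Char
open scoped ComplexConjugate CfsgLib.Char

universe u

/-- The degree data. -/
structure Hyp (G : Type u) [Group G] (p q : ℕ) : Prop where
  hp : p.Prime
  hodd : Odd p
  hq : q = p ^ 2
  card : Nat.card G = q * ((q - 1) * ((q + 1) / 2))
  deg : ∀ χ : IrrCharacter G, charDegree χ.1 = 1 ∨ charDegree χ.1 = q ∨
    charDegree χ.1 = (q + 1) / 2 ∨ charDegree χ.1 = q - 1 ∨ charDegree χ.1 = q + 1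
  lin : ∀ χ : IrrCharacter G, charDegree χ.1 = 1 → χ.1 = fun _ => 1
  exq : ∃ χ : IrrCharacter G, charDegree χ.1 = q
  uniq : ∀ χ ξ : IrrCharacter G, charDegree χ.1 = q → charDegree ξ.1 = q → χ = ξ

variable {G : Type u} [Group G] [Fintype G] {p q : ℕ}

theorem deg_cast (χ : IrrCharacter G) : χ.1 1 = (charDegree χ.1 : ℂ) := by
  obtain ⟨n, hn, hd⟩ := exists_nat_degree_irr χ.2
  simp [charDegree, hd]

variable (h : Hyp G p q)
include h

/-- Arithmetic of `q`. -/
theorem Hyp.arith : ∃ a : ℕ, 2 ≤ a ∧ q = 4 * a + 1 := by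
  obtain ⟨k, hk⟩ := h.hodd
  have h2 := h.hp.two_le
  have : 1 ≤ k := by omega
  refine ⟨k * k + k, by nlinarith, ?_⟩
  rw [h.hq, hk]; ring

theorem Hyp.p_dvd_q : p ∣ q := h.hq ▸ dvd_pow_self p two_ne_zero

theorem Hyp.p_not_dvd : ¬ p ∣ (q - 1) * ((q + 1) / 2) := by
  obtain ⟨a, ha, hqa⟩ := h.arith
  intro hd
  rcases (h.hp.dvd_mul).mp hd with e | e
  · have := Nat.dvd_sub h.p_dvd_q e
    rw [show q - (q - 1) = 1 by omega] at this
    exact h.hp.ne_one (Nat.dvd_one.mp this)
  · have e' : p ∣ q + 1 := e.trans ⟨2, by omega⟩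
    exact h.hp.ne_one (Nat.dvd_one.mp ((Nat.dvd_add_right h.p_dvd_q).mp e'))

theorem Hyp.prime_cases {r : ℕ} (hr : r.Prime) (hd : r ∣ Nat.card G) :
    r = p ∨ r ∣ (q + 1) / 2 ∨ r ∣ q - 1 := by
  rw [h.card] at hd
  rcases (hr.dvd_mul).mp hd with e | e
  · rw [h.hq] at e
    exact Or.inl ((Nat.prime_dvd_prime_iff_eq hr h.hp).mp (hr.dvd_of_dvd_pow e))
  · rcases (hr.dvd_mul).mp e with e | e
    · exact Or.inr (Or.inr e)
    · exact Or.inr (Or.inl e)

omit h in
/-- The full `r`-part of a product. -/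
theorem full_part {r A B : ℕ} (hr : r.Prime) (hB : ¬ r ∣ B) (hN : Nat.card G = A * B) :
    r ^ (Nat.card G).factorization r ∣ A :=
  ((hr.coprime_iff_not_dvd.mpr hB).pow_left _).dvd_of_dvd_mul_right (hN ▸ Nat.ordProj_dvd _ _)

theorem Hyp.vanish_plus {r : ℕ} (hr : r.Prime) (hd : r ∣ (q + 1) / 2) {g : G} (hg : r ∣ orderOf g)
    (χ : IrrCharacter G) (hχ : charDegree χ.1 = (q + 1) / 2 ∨ charDegree χ.1 = q + 1) :
    χ.1 g = 0 := by
  obtain ⟨a, ha, hqa⟩ := h.arith
  have hd' : r ∣ 2 * a + 1 := by rwa [show (q + 1) / 2 = 2 * a + 1 by omega] at hd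
  have hr2 : r ≠ 2 := by rintro rfl; omega
  have hrp : r ≠ p := fun e => h.p_not_dvd (Dvd.dvd.mul_left (e ▸ hd) _)
  have hB : ¬ r ∣ q * (q - 1) := by
    intro e
    rcases (hr.dvd_mul).mp e with e | e
    · rw [h.hq] at e
      exact hrp ((Nat.prime_dvd_prime_iff_eq hr h.hp).mp (hr.dvd_of_dvd_pow e))
    · have e1 : r ∣ (q + 1) - (q - 1) := Nat.dvd_sub (hd.trans ⟨2, by omega⟩) e
      rw [show q + 1 - (q - 1) = 2 by omega] at e1
      exact hr2 ((Nat.prime_dvd_prime_iff_eq hr Nat.prime_two).mp e1)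
  have hfull := full_part hr hB (A := (q + 1) / 2) (by rw [h.card]; ring)
  refine SquareRoots.vanish_of_full_part χ hr (hfull.trans ?_) hg
  rcases hχ with e | e <;> rw [e]
  exact ⟨2, by omega⟩

theorem Hyp.vanish_minus {r : ℕ} (hr : r.Prime) (hd : r ∣ q - 1) {g : G} (hg : r ∣ orderOf g)
    (χ : IrrCharacter G) (hχ : charDegree χ.1 = q - 1) : χ.1 g = 0 := by
  obtain ⟨a, ha, hqa⟩ := h.arith
  have hrp : r ≠ p := fun e => h.p_not_dvd (Dvd.dvd.mul_right (e ▸ hd) _)
  have hB : ¬ r ∣ q * ((q + 1) / 2) := by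
    intro e
    rcases (hr.dvd_mul).mp e with e | e
    · rw [h.hq] at e
      exact hrp ((Nat.prime_dvd_prime_iff_eq hr h.hp).mp (hr.dvd_of_dvd_pow e))
    · have e1 : r ∣ (q + 1) - (q - 1) := Nat.dvd_sub (e.trans ⟨2, by omega⟩) hd
      rw [show q + 1 - (q - 1) = 2 by omega] at e1
      rw [(Nat.prime_dvd_prime_iff_eq hr Nat.prime_two).mp e1] at e
      omega
  have hfull := full_part hr hB (A := q - 1) (by rw [h.card]; ring)
  exact SquareRoots.vanish_of_full_part χ hr (hχ ▸ hfull) hg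

/-- The character of degree `q`. -/
noncomputable def Hyp.St : IrrCharacter G := h.exq.choose

theorem Hyp.St_deg : charDegree h.St.1 = q := h.exq.choose_spec

theorem Hyp.St_one : h.St.1 1 = (q : ℂ) := by rw [deg_cast, h.St_deg]

theorem Hyp.St_int (g : G) : ∃ a : ℤ, h.St.1 g = a :=
  BrauerTuan.exists_int_value_of_unique
    (fun ξ hξ => h.uniq ξ h.St (hξ.trans h.St_deg) h.St_deg) g

theorem Hyp.St_vanish {g : G} (hg : p ∣ orderOf g) : h.St.1 g = 0 := by
  have hfull := full_part h.hp h.p_not_dvd h.card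
  exact SquareRoots.vanish_of_full_part h.St h.hp (h.St_deg.symm ▸ hfull) hg

/-- The trivial character. -/
theorem Hyp.exists_triv : ∃ T : IrrCharacter G, T.1 = (fun _ => 1) ∧ T ≠ h.St ∧
    ∀ χ : IrrCharacter G, χ ≠ T → χ ≠ h.St →
      charDegree χ.1 = (q + 1) / 2 ∨ charDegree χ.1 = q - 1 ∨ charDegree χ.1 = q + 1 := by
  obtain ⟨a, ha, hqa⟩ := h.arith
  refine ⟨⟨fun _ => 1, isIrrCharacter_one⟩, rfl, fun e => ?_, fun χ hT hS => ?_⟩
  · have h1 := congrArg (fun x : IrrCharacter G => x.1 1) e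
    rw [h.St_one] at h1
    have h1' : (1 : ℂ) = ((q : ℕ) : ℂ) := h1
    have : (1 : ℕ) = q := by exact_mod_cast h1'
    omega
  · rcases h.deg χ with e | e | e
    · exact absurd (Subtype.ext (h.lin χ e)) hT
    · exact absurd (h.uniq χ h.St e h.St_deg) hS
    · exact e

/-- Orthogonality with the identity, reduced modulo `k`. -/
theorem Hyp.congr {g : G} (hg : g ≠ 1) {S : ℤ} (hS : h.St.1 g = S) (k : ℕ) (hk : k ≠ 0)
    (hall : ∀ χ : IrrCharacter G, charDegree χ.1 = (q + 1) / 2 ∨ charDegree χ.1 = q - 1 ∨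
      charDegree χ.1 = q + 1 → χ.1 g = 0 ∨ k ∣ charDegree χ.1) :
    (k : ℤ) ∣ 1 + q * S := by
  classical
  obtain ⟨T, hT, hTS, hrest⟩ := h.exists_triv
  have hsum := sum_degree_mul_irr g
  rw [if_neg hg, ← Finset.sum_filter_add_sum_filter_not Finset.univ
    (fun χ : IrrCharacter G => χ ∈ ({T, h.St} : Finset _))] at hsum
  simp only [Finset.filter_mem_eq_inter, Finset.univ_inter, Finset.sum_pair hTS, hT, h.St_one, hS,
    mul_one] at hsum
  set R := Finset.univ.filter fun χ : IrrCharacter G => χ ∉ ({T, h.St} : Finset _) with hR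
  have hterm : ∀ χ ∈ R, χ.1 1 * χ.1 g = (k : ℂ) * (((charDegree χ.1 / k : ℕ) : ℂ) * χ.1 g) := by
    intro χ hχ
    simp only [hR, Finset.mem_filter, Finset.mem_insert, Finset.mem_singleton, not_or] at hχ
    rcases hall χ (hrest χ hχ.2.1 hχ.2.2) with e | ⟨c, e⟩
    · rw [e]; simp
    · rw [deg_cast, e, Nat.mul_div_cancel_left _ (Nat.pos_of_ne_zero hk)]
      push_cast; ring
  rw [Finset.sum_congr rfl hterm, ← Finset.mul_sum] at hsum
  set Z := ∑ χ ∈ R, ((charDegree χ.1 / k : ℕ) : ℂ) * χ.1 g with hZ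
  have hZint : IsIntegral ℤ Z := by
    refine IsIntegral.sum _ fun χ _ => IsIntegral.mul ?_ (isIntegral_value (isCharacter_of_isIrr χ.2) g)
    have := isIntegral_algebraMap (R := ℤ) (A := ℂ) (x := ((charDegree χ.1 / k : ℕ) : ℤ))
    rwa [eq_intCast, Int.cast_natCast] at this
  have hk' : (k : ℂ) ≠ 0 := Nat.cast_ne_zero.mpr hk
  have hZq : Z = ((-((1 + q * S : ℤ) : ℚ) / k : ℚ) : ℂ) := by
    push_cast
    rw [eq_div_iff hk']
    linear_combination hsum
  obtain ⟨n, hn⟩ := exists_int_of_isIntegral_rat (hZq ▸ hZint)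
  refine ⟨-n, ?_⟩
  have hk'' : (k : ℚ) ≠ 0 := Nat.cast_ne_zero.mpr hk
  rw [div_eq_iff hk''] at hn
  have : ((1 + q * S : ℤ) : ℚ) = ((k * -n : ℤ) : ℚ) := by push_cast at hn ⊢; linarith
  exact_mod_cast this

theorem Hyp.congr_plus {r : ℕ} (hr : r.Prime) (hd : r ∣ (q + 1) / 2) {g : G} (hg1 : g ≠ 1)
    (hg : r ∣ orderOf g) {S : ℤ} (hS : h.St.1 g = S) : ((q - 1 : ℕ) : ℤ) ∣ 1 + q * S := by
  obtain ⟨a, ha, hqa⟩ := h.arith
  refine h.congr hg1 hS (q - 1) (by omega) fun χ hχ => ?_
  rcases hχ with e | e | e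
  · exact Or.inl (h.vanish_plus hr hd hg χ (Or.inl e))
  · exact Or.inr (dvd_of_eq e.symm)
  · exact Or.inl (h.vanish_plus hr hd hg χ (Or.inr e))

theorem Hyp.congr_minus {r : ℕ} (hr : r.Prime) (hd : r ∣ q - 1) {g : G} (hg1 : g ≠ 1)
    (hg : r ∣ orderOf g) {S : ℤ} (hS : h.St.1 g = S) : (((q + 1) / 2 : ℕ) : ℤ) ∣ 1 + q * S := by
  obtain ⟨a, ha, hqa⟩ := h.arith
  refine h.congr hg1 hS _ (by omega) fun χ hχ => ?_
  rcases hχ with e | e | e
  · exact Or.inr (dvd_of_eq e.symm)
  · exact Or.inl (h.vanish_minus hr hd hg χ e)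
  · exact Or.inr (e ▸ ⟨2, by omega⟩)

/-- A `p`-singular element is a `p`-element. -/
theorem Hyp.only_p {g : G} (hg : p ∣ orderOf g) {r : ℕ} (hr : r.Prime) (hrg : r ∣ orderOf g) :
    r = p := by
  obtain ⟨a, ha, hqa⟩ := h.arith
  have hg1 : g ≠ 1 := fun e => h.hp.ne_one (Nat.dvd_one.mp (by rwa [e, orderOf_one] at hg))
  have hS : h.St.1 g = ((0 : ℤ) : ℂ) := by rw [h.St_vanish hg, Int.cast_zero]
  rcases h.prime_cases hr (hrg.trans (orderOf_dvd_natCard g)) with e | e | e
  · exact e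
  · have h1 := h.congr_plus hr e hg1 hrg hS
    rw [mul_zero, add_zero] at h1
    have := Int.le_of_dvd one_pos h1
    omega
  · have h1 := h.congr_minus hr e hg1 hrg hS
    rw [mul_zero, add_zero] at h1
    have := Int.le_of_dvd one_pos h1
    omega

/-- The centraliser of a nontrivial `p`-element is a `p`-group. -/
theorem Hyp.cent_pgroup {x : G} (hx : p ∣ orderOf x) :
    IsPGroup p (Subgroup.centralizer ({x} : Set G)) := by
  haveI := Fact.mk h.hp
  rw [IsPGroup.iff_orderOf]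
  rintro ⟨y, hy⟩
  rw [Subgroup.orderOf_mk]
  have hxy : Commute y x := Subgroup.mem_centralizer_singleton_iff.mp hy
  refine ⟨_, Nat.eq_prime_pow_of_unique_prime_dvd (orderOf_pos y).ne' fun {r} hr hry => ?_⟩
  by_contra hne
  set z := y ^ (orderOf y / r) with hz
  have hzo : orderOf z = r := orderOf_pow_orderOf_div (orderOf_pos y).ne' hry
  have hzx : Commute z x := hxy.pow_left _
  have hcop : (orderOf z).Coprime (orderOf x) := by
    rw [hzo]
    exact hr.coprime_iff_not_dvd.mpr fun e => hne (h.only_p hx hr e)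
  have hmul := hzx.orderOf_mul_eq_mul_orderOf_of_coprime hcop
  exact hne (h.only_p (g := z * x) (hmul ▸ Dvd.dvd.mul_left hx _) hr
    (hmul ▸ hzo.symm ▸ dvd_mul_right _ _))

/-- The centraliser of an element prime to `p` has order prime to `p`. -/
theorem Hyp.cent_dvd {g : G} (hg1 : g ≠ 1) (hg : ¬ p ∣ orderOf g) :
    Nat.card (Subgroup.centralizer ({g} : Set G)) ∣ (q - 1) * ((q + 1) / 2) := by
  haveI := Fact.mk h.hp
  set C := Subgroup.centralizer ({g} : Set G)
  have hnp : ¬ p ∣ Nat.card C := by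
    intro e
    obtain ⟨⟨x, hx⟩, hxo⟩ := exists_prime_orderOf_dvd_card' p e
    rw [Subgroup.orderOf_mk] at hxo
    have hgx : g ∈ Subgroup.centralizer ({x} : Set G) := Subgroup.mem_centralizer_singleton_iff.mpr
      (Subgroup.mem_centralizer_singleton_iff.mp hx).symm
    obtain ⟨k, hk⟩ := IsPGroup.iff_orderOf.mp (h.cent_pgroup (dvd_of_eq hxo.symm)) ⟨g, hgx⟩
    rw [Subgroup.orderOf_mk] at hk
    rcases k with _ | k
    · exact hg1 (orderOf_eq_one_iff.mp (by rw [hk, pow_zero]))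
    · exact hg (hk ▸ dvd_pow_self p k.succ_ne_zero)
  have hcop : (Nat.card C).Coprime q := by
    rw [h.hq]
    exact ((h.hp.coprime_iff_not_dvd.mpr hnp).symm).pow_right 2
  exact hcop.dvd_of_dvd_mul_left (h.card ▸ Subgroup.card_subgroup_dvd_card C)

omit h in
/-- The second orthogonality relation as an inequality. -/
theorem sum_normSq_le (g : G) (s : Finset (IrrCharacter G)) :
    ∑ χ ∈ s, ‖χ.1 g‖ ^ 2 ≤ (Nat.card (Subgroup.centralizer ({g} : Set G)) : ℝ) := by
  classical
  have e := column_orthogonality g g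
  rw [if_pos (IsConj.refl g)] at e
  have e' : ∑ χ : IrrCharacter G, ‖χ.1 g‖ ^ 2 =
      (Nat.card (Subgroup.centralizer ({g} : Set G)) : ℝ) := by
    have := congrArg Complex.re e
    rw [Complex.re_sum, Complex.natCast_re] at this
    rw [← this]
    exact Finset.sum_congr rfl fun χ _ => by
      rw [Complex.mul_conj, Complex.ofReal_re, Complex.normSq_eq_norm_sq]
  rw [← e']
  exact Finset.sum_le_sum_of_subset_of_nonneg (Finset.subset_univ _) fun _ _ _ => by positivity

theorem Hyp.St_bound {g : G} {S : ℤ} (hS : h.St.1 g = S) :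
    1 + S ^ 2 ≤ (Nat.card (Subgroup.centralizer ({g} : Set G)) : ℤ) := by
  classical
  obtain ⟨T, hT, hTS, -⟩ := h.exists_triv
  have := sum_normSq_le g {T, h.St}
  rw [Finset.sum_pair hTS, hT, hS, norm_one, Complex.norm_intCast, sq_abs] at this
  have h2 : (((1 : ℤ) + S ^ 2 : ℤ) : ℝ) ≤ ((Nat.card (Subgroup.centralizer ({g} : Set G)) : ℤ) : ℝ) := by
    push_cast
    linarith
  exact_mod_cast h2

/-- Off the identity and the `p`-singular elements the character of degree `q` takes `±1`; it takes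
`1` on the elements of even order. -/
theorem Hyp.St_values {g : G} (hg1 : g ≠ 1) (hg : ¬ p ∣ orderOf g) :
    (h.St.1 g = 1 ∨ h.St.1 g = -1) ∧ (orderOf g = 2 → h.St.1 g = 1) := by
  classical
  obtain ⟨a, ha, hqa⟩ := h.arith
  obtain ⟨S, hS⟩ := h.St_int g
  have hb := h.St_bound hS
  have hCle := Nat.le_of_dvd (Nat.mul_pos (by omega) (by omega)) (h.cent_dvd hg1 hg)
  set C := Nat.card (Subgroup.centralizer ({g} : Set G)) with hC
  have hQ1 : (q + 1) / 2 = 2 * a + 1 := by omega
  have hq1 : q - 1 = 4 * a := by omega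
  rw [hQ1, hq1] at hCle
  have hCle' : (C : ℤ) ≤ 4 * (a : ℤ) * (2 * a + 1) := by exact_mod_cast hCle
  have haz : (2 : ℤ) ≤ a := by exact_mod_cast ha
  have hq' : (q : ℤ) = 4 * a + 1 := by exact_mod_cast hqa
  obtain ⟨r, hr, hrg⟩ := Nat.exists_prime_and_dvd (fun e => hg1 (orderOf_eq_one_iff.mp e))
  by_cases hplus : ∃ s : ℕ, s.Prime ∧ s ∣ orderOf g ∧ s ∣ (q + 1) / 2
  · obtain ⟨s, hs, hsg, hsd⟩ := hplus
    have h1 := h.congr_plus hs hsd hg1 hsg hS
    rw [hq1] at h1
    push_cast at h1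
    rw [hq'] at h1
    obtain ⟨j, hj⟩ : (4 : ℤ) * a ∣ 1 + S :=
      (dvd_add_left (dvd_mul_right (4 * (a : ℤ)) S)).mp
        (by rwa [show (1 : ℤ) + S + 4 * a * S = 1 + (4 * a + 1) * S by ring])
    refine ⟨Or.inr ?_, fun ho => absurd hsd ?_⟩
    · have hj0 : j = 0 := by
        rcases lt_trichotomy j 0 with hj' | hj' | hj'
        · nlinarith [mul_le_mul_of_nonneg_left (show j ≤ -1 by omega) (show (0 : ℤ) ≤ 4 * a by omega)]
        · exact hj'
        · nlinarith [mul_le_mul_of_nonneg_left (show (1 : ℤ) ≤ j by omega) (show (0 : ℤ) ≤ 4 * a by omega)]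
      rw [hj0, mul_zero] at hj
      rw [hS, show S = -1 by omega]; simp
    · rw [ho] at hsg
      rw [(Nat.prime_dvd_prime_iff_eq hs Nat.prime_two).mp hsg, hQ1]
      omega
  · push Not at hplus
    have hrd : r ∣ q - 1 := by
      rcases h.prime_cases hr (hrg.trans (orderOf_dvd_natCard g)) with e | e | e
      · exact absurd (e ▸ hrg) hg
      · exact absurd e (hplus r hr hrg)
      · exact e
    have h1 := h.congr_minus hr hrd hg1 hrg hS
    rw [hQ1] at h1
    push_cast at h1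
    rw [hq'] at h1
    obtain ⟨j, hj⟩ : (2 * (a : ℤ) + 1) ∣ 1 - S :=
      (dvd_add_left (Dvd.dvd.mul_right (dvd_mul_left _ 2) S)).mp
        (by rwa [show (1 : ℤ) - S + 2 * (2 * (a : ℤ) + 1) * S = 1 + (4 * a + 1) * S by ring])
    suffices hj0 : j = 0 by
      rw [hj0, mul_zero] at hj
      have : h.St.1 g = 1 := by rw [hS, show S = 1 by omega]; simp
      exact ⟨Or.inl this, fun _ => this⟩
    by_contra hj0
    -- `j = ±1` and the class of `g` has `q` or `2 q` elements
    have hjabs : j = 1 ∨ j = -1 := by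
      by_contra hcon
      push Not at hcon
      have hS2 : S = 1 - (2 * a + 1) * j := by omega
      rcases (show j ≤ -2 ∨ 2 ≤ j by omega) with e | e <;>
        nlinarith [mul_le_mul_of_nonneg_left e (show (0 : ℤ) ≤ 2 * a + 1 by omega)]
    have hS2 : 4 * (a : ℤ) ^ 2 ≤ S ^ 2 := by
      rcases hjabs with rfl | rfl
      · nlinarith
      · nlinarith
    obtain ⟨m, hm⟩ := h.cent_dvd hg1 hg
    rw [hQ1, hq1, ← hC] at hm
    have hm2 : m ≤ 2 := by
      by_contra hm3
      have h3 : C * 3 ≤ 4 * a * (2 * a + 1) := hm ▸ Nat.mul_le_mul_left C (by omega)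
      have h3' : (C : ℤ) * 3 ≤ 4 * a * (2 * a + 1) := by exact_mod_cast h3
      nlinarith
    have hidx : (Subgroup.centralizer ({g} : Set G)).index = q * m := by
      have e := (Subgroup.centralizer ({g} : Set G)).card_mul_index
      rw [← hC, h.card, hQ1, hq1, hm, show q * (C * m) = C * (q * m) by ring] at e
      exact Nat.eq_of_mul_eq_mul_left Nat.card_pos e
    have heta : ∀ χ : IrrCharacter G, charDegree χ.1 = (q + 1) / 2 → χ.1 g = 0 := by
      intro χ hχ
      obtain ⟨n, ρ, hρ, hχe⟩ := χ.2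
      haveI := hρ
      have hn : n = (q + 1) / 2 := by
        have h1 : χ.1 1 = (n : ℂ) := by rw [← hχe, Representation.char_one]; simp
        rw [deg_cast, hχ] at h1
        exact_mod_cast h1.symm
      have hm0 : m ≠ 0 := fun e => by rw [e, mul_zero] at hm; nlinarith
      have hcop : Nat.Coprime (Module.finrank ℂ (Fin n → ℂ))
          (Subgroup.centralizer ({g} : Set G)).index := by
        rw [Module.finrank_fin_fun, hn, hidx, hQ1]
        refine Nat.Coprime.mul_right ?_ ?_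
        · rw [hqa, show 4 * a + 1 = 2 * a + (2 * a + 1) by omega, Nat.coprime_add_self_right]
          exact (Nat.coprime_self_add_left).mpr (Nat.coprime_one_left _)
        · rcases (show m = 1 ∨ m = 2 by omega) with rfl | rfl
          · exact Nat.coprime_one_right _
          · exact Nat.coprime_two_right.mpr ⟨a, rfl⟩
      rcases burnside_zero_or_scalar ρ g hcop with e | e
      · rw [← hχe]; exact e
      · exfalso
        obtain ⟨T, hT, hTS, -⟩ := h.exists_triv
        have hχT : χ ≠ T := fun e' => by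
          rw [e', charDegree, hT] at hχ
          simp at hχ
          omega
        have hχS : χ ≠ h.St := fun e' => by rw [e', h.St_deg] at hχ; omega
        have := sum_normSq_le g {T, h.St, χ}
        rw [Finset.sum_insert (by simp [hTS, Ne.symm hχT]), Finset.sum_pair (Ne.symm hχS), hT, hS,
          norm_one, Complex.norm_intCast, sq_abs, ← hχe, e, Module.finrank_fin_fun, hn, hQ1] at this
        have h2 : (1 + (S ^ 2 + (2 * a + 1) ^ 2) : ℤ) ≤ C := by
          have : ((1 + (S ^ 2 + (2 * (a : ℤ) + 1) ^ 2) : ℤ) : ℝ) ≤ ((C : ℤ) : ℝ) := by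
            push_cast at this ⊢
            linarith
          exact_mod_cast this
        nlinarith
    have h2 := h.congr hg1 hS (q + 1) (by omega) fun χ hχ => ?_
    · rw [show ((q + 1 : ℕ) : ℤ) = 2 * (2 * a + 1) by push_cast; rw [hq']; ring, hq'] at h2
      obtain ⟨i, hi⟩ : (2 * (2 * (a : ℤ) + 1)) ∣ 1 - S :=
        (dvd_add_left (dvd_mul_right _ S)).mp
          (by rwa [show (1 : ℤ) - S + 2 * (2 * (a : ℤ) + 1) * S = 1 + (4 * a + 1) * S by ring])
      have e : (2 * (a : ℤ) + 1) * j = (2 * a + 1) * (2 * i) := by rw [← hj, hi]; ring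
      have := mul_left_cancel₀ (show (2 * (a : ℤ) + 1) ≠ 0 by omega) e
      omega
    · rcases hχ with e | e | e
      · exact Or.inl (heta χ e)
      · exact Or.inl (h.vanish_minus hr hrd hrg χ e)
      · exact Or.inr (dvd_of_eq e.symm)

/-- The `p`-singular elements are `q ^ 2 - 1` in number. -/
theorem Hyp.count : Nat.card {g : G // p ∣ orderOf g} + 1 = q ^ 2 := by
  classical
  have hn := classInner_irr_self h.St.2
  rw [classInner, inv_mul_eq_one₀ (Nat.cast_ne_zero.mpr Nat.card_pos.ne')] at hn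
  have hval : ∀ g : G, h.St.1 g * conj (h.St.1 g) + (if p ∣ orderOf g then 1 else 0) =
      1 + if g = 1 then (q : ℂ) ^ 2 - 1 else 0 := by
    intro g
    by_cases hg1 : g = 1
    · subst hg1
      rw [if_neg (by rw [orderOf_one]; exact h.hp.not_dvd_one), if_pos rfl, h.St_one,
        Complex.conj_natCast]
      ring
    · rw [if_neg hg1]
      by_cases hg : p ∣ orderOf g
      · rw [if_pos hg, h.St_vanish hg, zero_mul]; ring
      · rw [if_neg hg]
        rcases (h.St_values hg1 hg).1 with e | e <;> rw [e] <;> simp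
  have := Finset.sum_congr (s₁ := (Finset.univ : Finset G)) rfl fun g _ => hval g
  rw [Finset.sum_add_distrib, Finset.sum_add_distrib, ← hn, Finset.sum_boole,
    Finset.sum_ite_eq', if_pos (Finset.mem_univ _), Finset.sum_const, Finset.card_univ,
    nsmul_eq_mul, mul_one, ← Nat.card_eq_fintype_card, add_right_inj] at this
  rw [Nat.card_eq_fintype_card, Fintype.card_subtype]
  have h2 : (((Finset.univ.filter fun g : G => p ∣ orderOf g).card + 1 : ℕ) : ℂ) = ((q ^ 2 : ℕ) : ℂ) := by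
    push_cast; rw [this]; ring
  exact_mod_cast h2

end CfsgLib.PSL2Degrees
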